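import Mathlib
import Cfsg.Prelude.Def_Classical
import Cfsg.Agent.LieClassical.SympCount
import Cfsg.Agent.LieClassical.SympCenter
import Cfsg.Agent.LieClassical.FieldTransfer
set_option linter.all false

-- part: H423/Pattern
section
/-!
The prime graph with vertices 2, 3, 5, 7, 13 and edges 2-3, 2-5, 2-7, 3-5.
-/

set_option autoImplicit false

namespace Cfsg.Agent.H423.Pattern

universe u

/-- the prime graph of `PSp_6(3)` -/
def Pat (G : Type u) [Group G] : Prop :=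
  (∀ p : ℕ, p.Prime → (p ∣ Nat.card G ↔ (p = 2 ∨ p = 3 ∨ p = 5 ∨ p = 7 ∨ p = 13))) ∧
  (∀ p q : ℕ, p.Prime → q.Prime → p ≠ q →
    ((∃ g : G, orderOf g = p * q) ↔ (p * q = 6 ∨ p * q = 10 ∨ p * q = 14 ∨ p * q = 15)))

theorem pat_of {G : Type u} [Group G] [Finite G]
    (hp : ∀ p : ℕ, p.Prime → (∃ g : G, orderOf g = p) → (p = 2 ∨ p = 3 ∨ p = 5 ∨ p = 7 ∨ p = 13))
    (h13 : ∃ g : G, orderOf g = 13)
    (h6 : ∃ g : G, orderOf g = 6) (h10 : ∃ g : G, orderOf g = 10) (h14 : ∃ g : G, orderOf g = 14)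
    (h15 : ∃ g : G, orderOf g = 15)
    (h21 : ∀ g : G, orderOf g ≠ 21) (h26 : ∀ g : G, orderOf g ≠ 26) (h35 : ∀ g : G, orderOf g ≠ 35)
    (h39 : ∀ g : G, orderOf g ≠ 39) (h65 : ∀ g : G, orderOf g ≠ 65) (h91 : ∀ g : G, orderOf g ≠ 91) : Pat G := by
  have hdvd : ∀ m : ℕ, (∃ g : G, orderOf g = m) → m ∣ Nat.card G := by
    rintro m ⟨g, rfl⟩
    exact orderOf_dvd_natCard g
  have hprime : ∀ p : ℕ, p.Prime → p ∣ Nat.card G → (p = 2 ∨ p = 3 ∨ p = 5 ∨ p = 7 ∨ p = 13) := by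
    intro p hpp hd
    have : Fact p.Prime := ⟨hpp⟩
    exact hp p hpp (exists_prime_orderOf_dvd_card' p hd)
  constructor
  · intro p hpp
    refine ⟨hprime p hpp, ?_⟩
    rintro (rfl | rfl | rfl | rfl | rfl)
    · exact (show (2 : ℕ) ∣ 6 by norm_num).trans (hdvd 6 h6)
    · exact (show (3 : ℕ) ∣ 6 by norm_num).trans (hdvd 6 h6)
    · exact (show (5 : ℕ) ∣ 10 by norm_num).trans (hdvd 10 h10)
    · exact (show (7 : ℕ) ∣ 14 by norm_num).trans (hdvd 14 h14)
    · exact hdvd 13 h13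
  · intro p q hpp hqp hne
    constructor
    · rintro ⟨g, hg⟩
      have hd : p * q ∣ Nat.card G := hdvd _ ⟨g, hg⟩
      have h1 := hprime p hpp ((Dvd.intro _ rfl).trans hd)
      have h2 := hprime q hqp ((Dvd.intro_left _ rfl).trans hd)
      rcases h1 with rfl | rfl | rfl | rfl | rfl <;> rcases h2 with rfl | rfl | rfl | rfl | rfl <;>
        first
        | exact absurd rfl hne
        | exact absurd hg (h21 g)
        | exact absurd hg (h26 g)
        | exact absurd hg (h35 g)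
        | exact absurd hg (h39 g)
        | exact absurd hg (h65 g)
        | exact absurd hg (h91 g)
        | norm_num
    · rintro (h | h | h | h)
      · rw [h]; exact h6
      · rw [h]; exact h10
      · rw [h]; exact h14
      · rw [h]; exact h15

theorem Pat.iff {G : Type u} {H : Type} [Group G] [Group H] (hG : Pat G) (hH : Pat H) :
    (∀ p : ℕ, p.Prime → (p ∣ Nat.card G ↔ p ∣ Nat.card H)) ∧
      (∀ p q : ℕ, p.Prime → q.Prime → p ≠ q →
        ((∃ g : G, orderOf g = p * q) ↔ (∃ g : H, orderOf g = p * q))) :=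
  ⟨fun p hp => (hG.1 p hp).trans (hH.1 p hp).symm,
    fun p q hp hq hne => (hG.2 p q hp hq hne).trans (hH.2 p q hp hq hne).symm⟩

end Cfsg.Agent.H423.Pattern
end

-- part: H423/PSpSix
section
/-!
The prime graph of `PSp_6(3)`.
-/

set_option autoImplicit false

namespace Cfsg.Agent.H423.PSpSix

open Matrix Polynomial Cfsg.Agent.H423.Pattern

instance fact3 : Fact (Nat.Prime 3) := ⟨Nat.prime_three⟩

section general

variable {n : Type} [Fintype n] [DecidableEq n]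

theorem cyc (g h : Matrix n n (ZMod 3)) (M : Matrix n (Fin 6) (ZMod 3)) (N : Matrix (Fin 6) n (ZMod 3))
    (hMN : M * N = 1) (hcol : ∀ j : Fin 5, ∀ i : n, (g * M) i j.castSucc = M i j.succ) (hc : g * h = h * g) :
    ∃ P : (ZMod 3)[X], h = aeval g P := by
  set v : n → ZMod 3 := fun i => M i 0 with hv
  have hcol' : ∀ j : Fin 6, g ^ (j : ℕ) *ᵥ v = fun i => M i j := by
    intro j
    induction j using Fin.induction with
    | zero => simp [hv]
    | succ j ih =>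
      rw [Fin.val_succ, pow_succ', ← Matrix.mulVec_mulVec]
      rw [Fin.val_castSucc] at ih
      rw [ih]
      funext i
      exact hcol j i
  set q : Fin 6 → ZMod 3 := N *ᵥ (h *ᵥ v) with hq
  set P : (ZMod 3)[X] := ∑ j : Fin 6, C (q j) * X ^ (j : ℕ) with hP
  refine ⟨P, ?_⟩
  have h1 : (aeval g P) *ᵥ v = h *ᵥ v := by
    have e1 : aeval g P = ∑ j : Fin 6, q j • g ^ (j : ℕ) := by
      rw [hP, map_sum]
      refine Finset.sum_congr rfl fun j _ => ?_
      simp [Algebra.smul_def]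
    have e2 : h *ᵥ v = M *ᵥ q := by
      rw [hq, Matrix.mulVec_mulVec, hMN, Matrix.one_mulVec]
    rw [e1, e2]
    funext i
    rw [Matrix.sum_mulVec, Finset.sum_apply, Matrix.mulVec, dotProduct]
    refine Finset.sum_congr rfl fun j _ => ?_
    rw [Matrix.smul_mulVec, hcol']
    simp [mul_comm]
  have hcP : g * aeval g P = aeval g P * g := by
    have := congrArg (aeval g) (mul_comm (X : (ZMod 3)[X]) P)
    simpa using this
  have hpow : ∀ (k : ℕ) (A : Matrix n n (ZMod 3)), g * A = A * g → g ^ k * A = A * g ^ k := by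
    intro k A hA
    induction k with
    | zero => simp
    | succ k ih => rw [pow_succ, Matrix.mul_assoc, hA, ← Matrix.mul_assoc, ih, Matrix.mul_assoc]
  have h2 : h * M = aeval g P * M := by
    ext i j
    have e3 : ∀ A : Matrix n n (ZMod 3), g * A = A * g → (fun i => (A * M) i j) = g ^ (j : ℕ) *ᵥ (A *ᵥ v) := by
      intro A hA
      rw [Matrix.mulVec_mulVec, hpow _ _ hA, ← Matrix.mulVec_mulVec, hcol']
      rfl
    have e4 := e3 h hc
    have e5 := e3 _ hcP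
    rw [h1, ← e4] at e5
    exact (congrFun e5 i).symm
  calc h = h * (M * N) := by rw [hMN, Matrix.mul_one]
    _ = aeval g P * (M * N) := by rw [← Matrix.mul_assoc, h2, Matrix.mul_assoc]
    _ = aeval g P := by rw [hMN, Matrix.mul_one]

theorem frob (g : Matrix n n (ZMod 3)) (P : (ZMod 3)[X]) (k : ℕ) :
    (aeval g P) ^ (3 ^ k) = aeval (g ^ (3 ^ k)) P := by
  have key : ∀ g : Matrix n n (ZMod 3), (aeval g P) ^ 3 = aeval (g ^ 3) P := by
    intro g
    rw [← expand_aeval, ZMod.expand_card, map_pow]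
  induction k with
  | zero => simp
  | succ k ih => rw [pow_succ, pow_mul, ih, key, ← pow_mul]

end general

theorem conj_of {G : Type} [Group G] [Finite G] {p : ℕ} (hp : p.Prime) (h1 : p ∣ Nat.card G)
    (h2 : ¬ p ^ 2 ∣ Nat.card G) {u v : G} (hu : orderOf u = p) (hv : orderOf v = p) :
    ∃ c : G, c * v * c⁻¹ ∈ Subgroup.zpowers u := by
  have : Fact p.Prime := ⟨hp⟩
  have hne : Nat.card G ≠ 0 := Nat.card_pos.ne'
  have hf : (Nat.card G).factorization p = 1 := by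
    have e1 : 1 ≤ (Nat.card G).factorization p := by
      rw [← hp.pow_dvd_iff_le_factorization hne, pow_one]; exact h1
    have e2 : ¬ 2 ≤ (Nat.card G).factorization p := by
      rw [← hp.pow_dvd_iff_le_factorization hne]; exact h2
    omega
  have hcard : ∀ w : G, orderOf w = p → Nat.card (Subgroup.zpowers w) = p ^ (Nat.card G).factorization p := by
    intro w hw
    rw [Nat.card_zpowers, hw, hf, pow_one]
  let P : Sylow p G := Sylow.ofCard (Subgroup.zpowers u) (hcard u hu)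
  let Q : Sylow p G := Sylow.ofCard (Subgroup.zpowers v) (hcard v hv)
  obtain ⟨c, hc⟩ := MulAction.exists_smul_eq G Q P
  refine ⟨c, ?_⟩
  have h3 : c * v * c⁻¹ ∈ ((c • Q : Sylow p G) : Subgroup G) := by
    rw [Sylow.coe_subgroup_smul]
    have : v ∈ (Q : Subgroup G) := Subgroup.mem_zpowers v
    exact ⟨v, this, rfl⟩
  rw [hc] at h3
  exact h3

theorem conj_commute {G : Type} [Group G] [Finite G] {p : ℕ} (hp : p.Prime) (h1 : p ∣ Nat.card G)
    (h2 : ¬ p ^ 2 ∣ Nat.card G) {u v w : G} (hu : orderOf u = p) (hv : orderOf v = p) (hc : u * w = w * u) :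
    ∃ c : G, v * (c⁻¹ * w * c) = (c⁻¹ * w * c) * v := by
  obtain ⟨c, hc1⟩ := conj_of hp h1 h2 hu hv
  refine ⟨c, ?_⟩
  obtain ⟨k, hk⟩ := hc1
  have h3 : Commute (u ^ k) w := (show Commute u w from hc).zpow_left k
  change u ^ k = _ at hk
  rw [hk] at h3
  have h4 : (c * v * c⁻¹) * w = w * (c * v * c⁻¹) := h3
  calc v * (c⁻¹ * w * c) = c⁻¹ * ((c * v * c⁻¹) * w) * c := by group
    _ = c⁻¹ * (w * (c * v * c⁻¹)) * c := by rw [h4]
    _ = (c⁻¹ * w * c) * v := by group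

/-! ### the symplectic group -/

abbrev S : Type := symplecticGroup (Fin 3) (ZMod 3)
abbrev L : Type := Cfsg.PSp 3 (ZMod 3)
abbrev M6 : Type := Matrix (Fin 3 ⊕ Fin 3) (Fin 3 ⊕ Fin 3) (ZMod 3)

theorem card_S : Nat.card S = 9170703360 := by
  rw [Cfsg.Agent.LieClassical.SympCount.card_symplecticGroup 3]
  simp [ZMod.card, Finset.prod_range_succ]

theorem mem_of {A : M6} (h : A * J (Fin 3) (ZMod 3) * Aᵀ = J (Fin 3) (ZMod 3)) :
    A ∈ symplecticGroup (Fin 3) (ZMod 3) := SymplecticGroup.mem_iff.2 h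

/-- an element of order 28 -/
def g1 : M6 := fromBlocks !![0,1,0;0,2,0;0,0,1] !![0,0,0;1,0,0;0,0,1] !![2,0,1;2,1,0;0,1,0] !![1,1,1;0,0,0;0,0,1]
def g2 : M6 := fromBlocks !![0,2,0;2,1,1;0,1,1] !![1,0,0;0,1,1;0,0,2] !![1,1,2;0,1,0;0,0,0] !![1,1,0;1,0,0;1,0,1]
def g3 : M6 := fromBlocks !![2,1,1;2,0,1;0,1,1] !![0,1,1;1,0,2;1,0,0] !![1,1,0;2,2,1;2,1,1] !![2,1,0;2,1,1;1,1,2]
def g4 : M6 := fromBlocks !![2,0,1;2,1,2;2,2,2] !![1,0,2;1,1,1;2,1,2] !![0,1,2;0,2,0;1,1,2] !![0,2,2;1,2,1;2,1,1]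
def g7 : M6 := fromBlocks !![0,0,2;2,2,1;1,1,0] !![2,2,0;2,2,1;0,1,2] !![1,2,1;2,0,2;1,2,0] !![0,1,2;0,1,2;1,2,0]

set_option maxRecDepth 100000

theorem g1_mem : g1 ∈ symplecticGroup (Fin 3) (ZMod 3) := mem_of (by decide)
theorem g11 : g1 * g1 = g2 := by decide
theorem g21 : g2 * g1 = g3 := by decide
theorem g22 : g2 * g2 = g4 := by decide
theorem g43 : g4 * g3 = g7 := by decide
theorem g77 : g7 * g7 = -1 := by decide

/-- the order 13 element, blocks -/
def A13 : Matrix (Fin 3) (Fin 3) (ZMod 3) := !![0,0,1;1,0,1;0,1,0]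
def B13 : Matrix (Fin 3) (Fin 3) (ZMod 3) := !![2,0,1;1,0,0;0,1,0]
def g13 : M6 := fromBlocks A13 0 0 B13

theorem g13_mem : g13 ∈ symplecticGroup (Fin 3) (ZMod 3) := mem_of (by decide)

/-- cyclic vector data for the element of order 7 -/
def MM7 : Matrix (Fin 3 ⊕ Fin 3) (Fin 6) (ZMod 3) :=
  Matrix.of (Sum.elim ![![0, 2, 1, 0, 0, 2], ![0, 1, 1, 0, 2, 0], ![0, 2, 2, 2, 1, 1]]
    ![![0, 2, 0, 0, 0, 2], ![0, 1, 1, 2, 0, 0], ![1, 1, 1, 2, 2, 0]])
def NN7 : Matrix (Fin 6) (Fin 3 ⊕ Fin 3) (ZMod 3) :=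
  Matrix.of ![Sum.elim ![2, 0, 1] ![2, 1, 1], Sum.elim ![1, 1, 1] ![0, 2, 0], Sum.elim ![1, 0, 0] ![2, 0, 0],
    Sum.elim ![2, 1, 1] ![2, 1, 0], Sum.elim ![2, 0, 1] ![2, 2, 0], Sum.elim ![2, 2, 2] ![2, 1, 0]]
theorem MN7 : MM7 * NN7 = 1 := by decide
theorem col7 : ∀ j : Fin 5, ∀ i, (g4 * MM7) i j.castSucc = MM7 i j.succ := by decide

def MM13 : Matrix (Fin 3 ⊕ Fin 3) (Fin 6) (ZMod 3) :=
  Matrix.of (Sum.elim ![![0, 1, 0, 1, 1, 1], ![0, 1, 1, 1, 2, 2], ![1, 0, 1, 1, 1, 2]]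
    ![![0, 1, 2, 1, 0, 2], ![0, 0, 1, 2, 1, 0], ![1, 0, 0, 1, 2, 1]])
def NN13 : Matrix (Fin 6) (Fin 3 ⊕ Fin 3) (ZMod 3) :=
  Matrix.of ![Sum.elim ![2, 1, 1] ![0, 1, 0], Sum.elim ![1, 0, 2] ![0, 1, 1], Sum.elim ![2, 0, 2] ![1, 0, 1],
    Sum.elim ![0, 2, 0] ![1, 2, 0], Sum.elim ![1, 2, 1] ![0, 0, 2], Sum.elim ![2, 2, 0] ![2, 0, 0]]
theorem MN13 : MM13 * NN13 = 1 := by decide
theorem col13 : ∀ j : Fin 5, ∀ i, (g13 * MM13) i j.castSucc = MM13 i j.succ := by decide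

theorem A13_cube : A13 * A13 * A13 = A13 + 1 := by decide
theorem B13_cube : B13 * B13 * B13 + B13 * B13 = 1 := by decide

theorem pow13 : g13 ^ 13 = 1 := by
  have h2 : g13 ^ 2 = fromBlocks !![0,1,0;0,1,1;1,0,1] 0 0 !![1,1,2;2,0,1;1,0,0] := by
    rw [sq]; decide
  have h3 : g13 ^ 3 = fromBlocks !![1,0,1;1,1,1;0,1,1] 0 0 !![0,2,1;1,1,2;2,0,1] := by
    rw [pow_succ, h2]; decide
  have h6 : g13 ^ 6 = fromBlocks !![1,1,2;2,2,0;1,2,2] 0 0 !![1,2,2;2,0,2;2,1,0] := by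
    rw [show g13 ^ 6 = g13 ^ 3 * g13 ^ 3 by rw [← pow_add], h3]; decide
  have h12 : g13 ^ 12 = fromBlocks !![2,1,0;0,0,1;1,0,0] 0 0 !![0,1,0;0,0,1;1,1,0] := by
    rw [show g13 ^ 12 = g13 ^ 6 * g13 ^ 6 by rw [← pow_add], h6]; decide
  rw [show g13 ^ 13 = g13 ^ 12 * g13 by rw [← pow_succ], h12]
  decide

theorem cent13 {h : M6} (hc : g13 * h = h * g13) : h ^ 27 = h := by
  obtain ⟨P, rfl⟩ := cyc g13 h MM13 NN13 MN13 col13 hc
  have := frob g13 P 3
  norm_num at this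
  rw [this]
  have e : g13 ^ 27 = g13 := by
    calc g13 ^ 27 = (g13 ^ 13) ^ 2 * g13 := by rw [← pow_mul, ← pow_succ]
      _ = g13 := by rw [pow13, one_pow, one_mul]
  rw [e]

theorem g1_4 : g1 ^ 4 = g4 := by
  rw [show g1 ^ 4 = (g1 * g1) * (g1 * g1) by simp only [pow_succ, pow_zero, one_mul, mul_assoc], g11, g22]

theorem g1_7 : g1 ^ 7 = g7 := by
  rw [show g1 ^ 7 = g1 ^ 4 * ((g1 * g1) * g1) by simp only [pow_succ, pow_zero, one_mul, mul_assoc],
    g1_4, g11, g21, g43]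

theorem g1_14 : g1 ^ 14 = -1 := by
  rw [show g1 ^ 14 = g1 ^ 7 * g1 ^ 7 by rw [← pow_add], g1_7, g77]

theorem g4_7 : g4 ^ 7 = 1 := by
  rw [← g1_4, ← pow_mul, show 4 * 7 = 14 * 2 from rfl, pow_mul, g1_14, neg_one_sq]

theorem cent7 {h : M6} (hc : g4 * h = h * g4) : h ^ 729 = h := by
  obtain ⟨P, rfl⟩ := cyc g4 h MM7 NN7 MN7 col7 hc
  have := frob g4 P 6
  norm_num at this
  rw [this]
  have e : g4 ^ 729 = g4 := by
    calc g4 ^ 729 = (g4 ^ 7) ^ 104 * g4 := by rw [← pow_mul, ← pow_succ]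
      _ = g4 := by rw [g4_7, one_pow, one_mul]
  rw [e]

/-! ### elements of the group -/

def s1 : S := ⟨g1, g1_mem⟩
def u7 : S := s1 ^ 4
def u13 : S := ⟨g13, g13_mem⟩

theorem u7_val : u7.1 = g4 := g1_4

theorem u13_val : u13.1 = g13 := rfl

theorem g4_ne : g4 ≠ 1 := by decide
theorem g13_ne : g13 ≠ 1 := by decide

theorem orderOf_u7 : orderOf u7 = 7 := by
  have : Fact (Nat.Prime 7) := ⟨by norm_num⟩
  rw [orderOf_eq_prime_iff]
  refine ⟨Subtype.ext ?_, fun h => g4_ne ?_⟩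
  · change u7.1 ^ 7 = 1
    rw [u7_val, g4_7]
  · rw [← u7_val, h]; rfl

theorem orderOf_u13 : orderOf u13 = 13 := by
  have : Fact (Nat.Prime 13) := ⟨by norm_num⟩
  rw [orderOf_eq_prime_iff]
  refine ⟨Subtype.ext ?_, fun h => g13_ne ?_⟩
  · change g13 ^ 13 = 1
    exact pow13
  · exact congrArg Subtype.val h

theorem finite_S : Finite S := by infer_instance

/-- elements commuting with an element of order 13 -/
theorem pow26 {u w : S} (hu : orderOf u = 13) (hc : u * w = w * u) : w ^ 26 = 1 := by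
  obtain ⟨c, h⟩ := conj_commute (p := 13) (by norm_num) (by rw [card_S]; norm_num) (by rw [card_S]; norm_num)
    hu orderOf_u13 hc
  have h0 : g13 * (c⁻¹ * w * c).1 = (c⁻¹ * w * c).1 * g13 := by
    have := congrArg Subtype.val h
    rw [← u13_val]; exact this
  have h1 : (c⁻¹ * w * c).1 ^ 27 = (c⁻¹ * w * c).1 := cent13 h0
  have h2 : (c⁻¹ * w * c) ^ 27 = c⁻¹ * w * c := Subtype.ext h1
  have h3 : (c⁻¹ * w * c) ^ 26 = 1 := by
    rw [pow_succ] at h2
    exact mul_eq_right.1 h2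
  have h4 : (c⁻¹ * w * c) ^ 26 = c⁻¹ * w ^ 26 * c := by
    have := conj_pow (i := 26) (a := c⁻¹) (b := w)
    rwa [inv_inv] at this
  rw [h4] at h3
  have : w ^ 26 = c * (c⁻¹ * w ^ 26 * c) * c⁻¹ := by group
  rw [this, h3, mul_one, mul_inv_cancel]

theorem pow728 {u w : S} (hu : orderOf u = 7) (hc : u * w = w * u) : w ^ 728 = 1 := by
  obtain ⟨c, h⟩ := conj_commute (p := 7) (by norm_num) (by rw [card_S]; norm_num) (by rw [card_S]; norm_num)
    hu orderOf_u7 hc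
  have h0 : g4 * (c⁻¹ * w * c).1 = (c⁻¹ * w * c).1 * g4 := by
    have := congrArg Subtype.val h
    rw [← u7_val]; exact this
  have h1 : (c⁻¹ * w * c).1 ^ 729 = (c⁻¹ * w * c).1 := cent7 h0
  have h2 : (c⁻¹ * w * c) ^ 729 = c⁻¹ * w * c := Subtype.ext h1
  have h3 : (c⁻¹ * w * c) ^ 728 = 1 := by
    rw [pow_succ] at h2
    exact mul_eq_right.1 h2
  have h4 : (c⁻¹ * w * c) ^ 728 = c⁻¹ * w ^ 728 * c := by
    have := conj_pow (i := 728) (a := c⁻¹) (b := w)
    rwa [inv_inv] at this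
  rw [h4] at h3
  have : w ^ 728 = c * (c⁻¹ * w ^ 728 * c) * c⁻¹ := by group
  rw [this, h3, mul_one, mul_inv_cancel]

theorem no_S (g : S) {p r : ℕ} (hp : p = 7 ∧ (r = 3 ∨ r = 5) ∨ p = 13 ∧ (r = 3 ∨ r = 5 ∨ r = 7)) :
    orderOf g ≠ p * r := by
  intro ho
  have hr0 : r ≠ 0 := by rcases hp with ⟨-, h | h⟩ | ⟨-, h | h | h⟩ <;> omega
  have hp0 : p ≠ 0 := by omega
  have h1 : orderOf (g ^ r) = p := by
    rw [orderOf_pow_of_dvd hr0 (by rw [ho]; exact Dvd.intro_left _ rfl), ho]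
    exact Nat.mul_div_cancel _ (Nat.pos_of_ne_zero hr0)
  have h2 : orderOf (g ^ p) = r := by
    rw [orderOf_pow_of_dvd hp0 (by rw [ho]; exact Dvd.intro _ rfl), ho]
    exact Nat.mul_div_cancel_left _ (Nat.pos_of_ne_zero hp0)
  have hc : g ^ r * g ^ p = g ^ p * g ^ r := by rw [← pow_add, ← pow_add, add_comm]
  rcases hp with ⟨rfl, h⟩ | ⟨rfl, h⟩
  · have h3 := orderOf_dvd_of_pow_eq_one (pow728 h1 hc)
    rw [h2] at h3
    rcases h with rfl | rfl <;> norm_num at h3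
  · have h3 := orderOf_dvd_of_pow_eq_one (pow26 h1 hc)
    rw [h2] at h3
    rcases h with rfl | rfl | rfl <;> norm_num at h3

/-! ### the projective group -/

theorem sq_center {z : S} (hz : z ∈ Subgroup.center S) : z ^ 2 = 1 := by
  obtain ⟨a, ha⟩ := (Cfsg.Agent.LieClassical.SympCenter.mem_center_iff 3 z).1 hz
  have h1 : a * a = 1 := Cfsg.Agent.LieClassical.SympCenter.sq_eq_one_of_smul_mem (m := 3) (by norm_num) (ha ▸ z.2)
  apply Subtype.ext
  change z.1 ^ 2 = 1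
  rw [ha, sq, smul_mul_smul_comm, h1, mul_one, one_smul]

theorem lift_odd (x : L) {m : ℕ} (hm : Odd m) (hx : orderOf x = m) : ∃ g : S, orderOf g = m := by
  obtain ⟨g, rfl⟩ := QuotientGroup.mk_surjective x
  have h1 : g ^ m ∈ Subgroup.center S := by
    rw [← QuotientGroup.eq_one_iff, QuotientGroup.mk_pow, ← hx]
    exact pow_orderOf_eq_one _
  refine ⟨g ^ (m + 1), ?_⟩
  obtain ⟨k, hk⟩ : ∃ k, m + 1 = 2 * k := by
    obtain ⟨j, rfl⟩ := hm
    exact ⟨j + 1, by ring⟩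
  apply Nat.dvd_antisymm
  · apply orderOf_dvd_of_pow_eq_one
    rw [← pow_mul, mul_comm, pow_mul, hk, pow_mul, sq_center h1, one_pow]
  · have h2 : (QuotientGroup.mk g : L) ^ (m + 1) = QuotientGroup.mk g := by
      rw [pow_succ, ← hx, pow_orderOf_eq_one, one_mul]
    have h3 : orderOf (QuotientGroup.mk (g ^ (m + 1)) : L) ∣ orderOf (g ^ (m + 1)) :=
      orderOf_map_dvd (QuotientGroup.mk' (Subgroup.center S)) _
    rw [QuotientGroup.mk_pow, h2, hx] at h3
    exact h3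

theorem no_L (x : L) {p r : ℕ} (hp : p = 7 ∧ (r = 3 ∨ r = 5) ∨ p = 13 ∧ (r = 3 ∨ r = 5 ∨ r = 7)) :
    orderOf x ≠ p * r := by
  intro ho
  obtain ⟨g, hg⟩ := lift_odd x (by rcases hp with ⟨rfl, rfl | rfl⟩ | ⟨rfl, rfl | rfl | rfl⟩ <;> decide) ho
  exact no_S g hp hg

/-! #### no element of order 26 -/

theorem A13_det : A13.det ≠ 0 := by decide

/-- the centraliser of `A13` -/
theorem cent_A {P : Matrix (Fin 3) (Fin 3) (ZMod 3)} (h : P * A13 = A13 * P) :
    P = !![P 0 0, P 2 0, P 1 0; P 1 0, P 0 0 + P 2 0, P 1 0 + P 2 0; P 2 0, P 1 0, P 0 0 + P 2 0] := by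
  have e : ∀ i j, (P * A13) i j = (A13 * P) i j := fun i j => by rw [h]
  have e00 := e 0 0
  have e10 := e 1 0
  have e20 := e 2 0
  have e01 := e 0 1
  have e11 := e 1 1
  have e21 := e 2 1
  simp [A13, Matrix.mul_apply, Fin.sum_univ_three] at e00 e10 e20 e01 e11 e21
  ext i j
  fin_cases i <;> fin_cases j <;> simp <;> grind

theorem key26 : ∀ p q r : ZMod 3,
    (!![p, r, q; q, p + r, q + r; r, q, p + r] * !![p, r, q; q, p + r, q + r; r, q, p + r] : Matrix (Fin 3) (Fin 3) (ZMod 3)) ≠ -1 ∧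
    ((!![p, r, q; q, p + r, q + r; r, q, p + r] * !![p, r, q; q, p + r, q + r; r, q, p + r] : Matrix (Fin 3) (Fin 3) (ZMod 3)) = 1 →
      (!![p, r, q; q, p + r, q + r; r, q, p + r] : Matrix (Fin 3) (Fin 3) (ZMod 3)) = 1 ∨
      (!![p, r, q; q, p + r, q + r; r, q, p + r] : Matrix (Fin 3) (Fin 3) (ZMod 3)) = -1) := by
  decide

theorem scalar_of {h : S} (hc : g13 * h.1 = h.1 * g13) {a : ZMod 3} (h2 : h.1 * h.1 = a • 1) :
    h ∈ Subgroup.center S := by
  obtain ⟨P, Q, R, T, hh⟩ : ∃ P Q R T, h.1 = fromBlocks P Q R T :=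
    ⟨_, _, _, _, (fromBlocks_toBlocks h.1).symm⟩
  have hmem := h.2
  have ha : a * a = 1 := by
    refine Cfsg.Agent.LieClassical.SympCenter.sq_eq_one_of_smul_mem (m := 3) (by norm_num) ?_
    rw [← h2]
    exact mul_mem h.2 h.2
  rw [hh] at hc h2 hmem
  rw [g13, fromBlocks_multiply, fromBlocks_multiply] at hc
  simp only [Matrix.zero_mul, Matrix.mul_zero, add_zero, zero_add] at hc
  obtain ⟨c1, c2, c3, c4⟩ := fromBlocks_inj.1 hc
  have hA := A13_cube
  have hB := B13_cube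
  have hBB : B13 * B13 * B13 = 1 - B13 * B13 := by rw [← hB]; abel
  have hQ : Q = 0 := by
    have e1 : (A13 * A13 * A13) * Q = Q * (B13 * B13 * B13) := by
      calc (A13 * A13 * A13) * Q = A13 * (A13 * (A13 * Q)) := by simp only [Matrix.mul_assoc]
        _ = Q * (B13 * B13 * B13) := by
          rw [c2, ← Matrix.mul_assoc A13 Q, c2, Matrix.mul_assoc Q B13 B13, ← Matrix.mul_assoc A13 Q, c2]
          simp only [Matrix.mul_assoc]
    rw [hA, hBB, Matrix.add_mul, Matrix.one_mul, c2, Matrix.mul_sub, Matrix.mul_one] at e1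
    have e2 : Q * (B13 + B13 * B13) = 0 := by
      rw [Matrix.mul_add]
      have e3 : Q * B13 + Q * (B13 * B13) = (Q * B13 + Q) - Q + Q * (B13 * B13) := by abel
      rw [e3, e1]
      abel
    have e4 : (B13 + B13 * B13) * B13 = 1 := by
      rw [← hB, Matrix.add_mul, add_comm]
    calc Q = Q * ((B13 + B13 * B13) * B13) := by rw [e4, Matrix.mul_one]
      _ = (Q * (B13 + B13 * B13)) * B13 := by rw [Matrix.mul_assoc]
      _ = 0 := by rw [e2, Matrix.zero_mul]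
  have hR : R = 0 := by
    have e1 : R * (A13 * A13 * A13) = (B13 * B13 * B13) * R := by
      calc R * (A13 * A13 * A13) = ((R * A13) * A13) * A13 := by simp only [Matrix.mul_assoc]
        _ = (B13 * B13 * B13) * R := by
          rw [← c3, Matrix.mul_assoc B13 R, ← c3, ← Matrix.mul_assoc B13 B13, Matrix.mul_assoc (B13 * B13) R, ← c3]
          simp only [Matrix.mul_assoc]
    rw [hA, hBB, Matrix.mul_add, Matrix.mul_one, ← c3, Matrix.sub_mul, Matrix.one_mul] at e1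
    have e2 : (B13 + B13 * B13) * R = 0 := by
      rw [Matrix.add_mul]
      have e3 : B13 * R + B13 * B13 * R = (B13 * R + R) - R + B13 * B13 * R := by abel
      rw [e3, e1]
      abel
    have e4 : B13 * (B13 + B13 * B13) = 1 := by
      rw [← hB, Matrix.mul_add, add_comm, Matrix.mul_assoc]
    calc R = (B13 * (B13 + B13 * B13)) * R := by rw [e4, Matrix.one_mul]
      _ = B13 * ((B13 + B13 * B13) * R) := by rw [Matrix.mul_assoc]
      _ = 0 := by rw [e2, Matrix.mul_zero]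
  subst hQ hR
  rw [fromBlocks_multiply, ← fromBlocks_one, fromBlocks_smul, fromBlocks_inj] at h2
  simp only [Matrix.zero_mul, add_zero] at h2
  obtain ⟨p1, -, -, -⟩ := h2
  rw [SymplecticGroup.fromBlocks_mem_iff] at hmem
  have hk := key26 (P 0 0) (P 1 0) (P 2 0)
  rw [← cent_A c1.symm] at hk
  have hP : P = 1 ∨ P = -1 := by
    rcases mul_self_eq_one_iff.1 ha with rfl | rfl
    · rw [one_smul] at p1
      exact hk.2 p1
    · rw [neg_smul, one_smul] at p1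
      exact absurd p1 hk.1
  rw [Cfsg.Agent.LieClassical.SympCenter.mem_center_iff]
  have h3 := hmem.2.2
  rcases hP with rfl | rfl
  · have hT : T = 1 := by simpa using h3
    refine ⟨1, ?_⟩
    rw [hh, hT, one_smul, fromBlocks_one]
  · have hT : T = -1 := by
      have : -T = 1 := by simpa using h3
      rw [← this, neg_neg]
    refine ⟨-1, ?_⟩
    rw [hh, hT, neg_smul, one_smul, ← fromBlocks_one, fromBlocks_neg, neg_zero]

theorem no26 (x : L) : orderOf x ≠ 26 := by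
  intro ho
  obtain ⟨g, rfl⟩ := QuotientGroup.mk_surjective x
  have hz : g ^ 26 ∈ Subgroup.center S := by
    rw [← QuotientGroup.eq_one_iff, QuotientGroup.mk_pow, ← ho]
    exact pow_orderOf_eq_one _
  have hnz : ∀ k : ℕ, ¬ 26 ∣ k → g ^ k ∉ Subgroup.center S := by
    intro k hk h
    rw [← QuotientGroup.eq_one_iff, QuotientGroup.mk_pow] at h
    apply hk
    rw [← ho]
    exact orderOf_dvd_of_pow_eq_one h
  have h52 : g ^ 52 = 1 := by
    rw [show 52 = 26 * 2 from rfl, pow_mul, sq_center hz]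
  have hu : orderOf (g ^ 4) = 13 := by
    have : Fact (Nat.Prime 13) := ⟨by norm_num⟩
    rw [orderOf_eq_prime_iff]
    refine ⟨by rw [← pow_mul]; exact h52, fun h => hnz 4 (by norm_num) ?_⟩
    rw [h]; exact one_mem _
  have hc : g ^ 4 * g ^ 13 = g ^ 13 * g ^ 4 := by rw [← pow_add, ← pow_add]
  obtain ⟨c, h⟩ := conj_commute (p := 13) (by norm_num) (by rw [card_S]; norm_num) (by rw [card_S]; norm_num)
    hu orderOf_u13 hc
  have h0 : g13 * (c⁻¹ * g ^ 13 * c).1 = (c⁻¹ * g ^ 13 * c).1 * g13 := by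
    have := congrArg Subtype.val h
    rw [← u13_val]; exact this
  obtain ⟨a, ha⟩ := (Cfsg.Agent.LieClassical.SympCenter.mem_center_iff 3 _).1 hz
  have h1 : (c⁻¹ * g ^ 13 * c) * (c⁻¹ * g ^ 13 * c) = g ^ 26 := by
    have e : (c⁻¹ * g ^ 13 * c) * (c⁻¹ * g ^ 13 * c) = c⁻¹ * (g ^ 13 * g ^ 13) * c := by group
    rw [e, ← pow_add]
    have := Subgroup.mem_center_iff.1 hz c⁻¹
    rw [this]; group
  have h2 : (c⁻¹ * g ^ 13 * c).1 * (c⁻¹ * g ^ 13 * c).1 = a • 1 := by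
    rw [← ha, ← h1]; rfl
  have h3 := scalar_of h0 h2
  apply hnz 13 (by norm_num)
  have h4 := (Subgroup.mem_center_iff.1 h3 c)
  have h5 : g ^ 13 = c⁻¹ * g ^ 13 * c := by
    calc g ^ 13 = (c * (c⁻¹ * g ^ 13 * c)) * c⁻¹ := by group
      _ = _ := by rw [h4]; group
  rw [h5]
  exact h3

/-! ### existence -/

theorem mk_ne {g : S} (h : ∀ a : ZMod 3, g.1 ≠ a • (1 : M6)) : (QuotientGroup.mk g : L) ≠ 1 := by
  rw [Ne, QuotientGroup.eq_one_iff]
  intro hg
  obtain ⟨a, ha⟩ := (Cfsg.Agent.LieClassical.SympCenter.mem_center_iff 3 g).1 hg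
  exact h a ha

theorem order_mk {g : S} {p : ℕ} (hp : p.Prime) (h1 : g ^ p = 1) (h : ∀ a : ZMod 3, g.1 ≠ a • (1 : M6)) :
    orderOf (QuotientGroup.mk g : L) = p := by
  have : Fact p.Prime := ⟨hp⟩
  rw [orderOf_eq_prime_iff]
  refine ⟨?_, mk_ne h⟩
  rw [← QuotientGroup.mk_pow, h1, QuotientGroup.mk_one]

theorem order_mul {g h : S} {p q : ℕ} (hp : p.Prime) (hq : q.Prime) (hpq : p ≠ q)
    (hg1 : g ^ p = 1) (hg : ∀ a : ZMod 3, g.1 ≠ a • (1 : M6))
    (hh1 : h ^ q = 1) (hh : ∀ a : ZMod 3, h.1 ≠ a • (1 : M6)) (hc : g * h = h * g) :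
    ∃ x : L, orderOf x = p * q := by
  refine ⟨QuotientGroup.mk g * QuotientGroup.mk h, ?_⟩
  have hc' : Commute (QuotientGroup.mk g : L) (QuotientGroup.mk h) := by
    change (QuotientGroup.mk g : L) * QuotientGroup.mk h = QuotientGroup.mk h * QuotientGroup.mk g
    rw [← QuotientGroup.mk_mul, hc, QuotientGroup.mk_mul]
  have h1 := order_mk hp hg1 hg
  have h2 := order_mk hq hh1 hh
  rw [hc'.orderOf_mul_eq_mul_orderOf_of_coprime, h1, h2]
  rw [h1, h2]
  exact (Nat.coprime_primes hp hq).2 hpq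

def zz : M6 := fromBlocks !![2,0,0;0,1,0;0,0,1] 0 0 !![2,0,0;0,1,0;0,0,1]
def tt : M6 := fromBlocks 1 !![1,0,0;0,0,0;0,0,0] 0 1
def yy : M6 := fromBlocks !![1,0,0;0,2,0;0,2,0] !![0,0,0;0,0,2;0,0,0] !![0,0,0;0,0,1;0,1,2] !![1,0,0;0,0,0;0,2,0]

def zS : S := ⟨zz, mem_of (by decide)⟩
def tS : S := ⟨tt, mem_of (by decide)⟩
def yS : S := ⟨yy, mem_of (by decide)⟩

theorem z2 : zS ^ 2 = 1 := by
  apply Subtype.ext
  change zz ^ 2 = 1
  rw [sq]; decide

theorem t3 : tS ^ 3 = 1 := by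
  apply Subtype.ext
  change tt ^ 3 = 1
  rw [pow_succ, sq]
  have : tt * tt = fromBlocks 1 !![2,0,0;0,0,0;0,0,0] 0 1 := by decide
  rw [this]
  decide

theorem zne : ∀ a : ZMod 3, zS.1 ≠ a • (1 : M6) := by
  change ∀ a : ZMod 3, zz ≠ a • (1 : M6)
  decide

theorem tne : ∀ a : ZMod 3, tS.1 ≠ a • (1 : M6) := by
  change ∀ a : ZMod 3, tt ≠ a • (1 : M6)
  decide

theorem yne : ∀ a : ZMod 3, yS.1 ≠ a • (1 : M6) := by
  change ∀ a : ZMod 3, yy ≠ a • (1 : M6)
  decide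

theorem zt : zS * tS = tS * zS := by
  apply Subtype.ext
  change zz * tt = tt * zz
  decide

theorem zy : zS * yS = yS * zS := by
  apply Subtype.ext
  change zz * yy = yy * zz
  decide

theorem ty : tS * yS = yS * tS := by
  apply Subtype.ext
  change tt * yy = yy * tt
  decide

theorem y5 : yS ^ 5 = 1 := by
  apply Subtype.ext
  change yy ^ 5 = 1
  have h2 : yy * yy = fromBlocks !![1,0,0;0,0,1;0,1,0] !![0,0,0;0,1,1;0,0,1] !![0,0,0;0,2,0;0,0,2]
      !![1,0,0;0,0,0;0,0,2] := by decide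
  have h4 : yy ^ 4 = fromBlocks !![1,0,0;0,0,2;0,0,0] !![0,0,0;0,0,0;0,1,0] !![0,0,0;0,0,2;0,2,1]
      !![1,0,0;0,2,2;0,0,0] := by
    rw [show yy ^ 4 = (yy * yy) * (yy * yy) by simp only [pow_succ, pow_zero, one_mul, mul_assoc], h2]
    decide
  rw [pow_succ, h4]
  decide

theorem g1_2ne : ∀ a : ZMod 3, (s1 ^ 2).1 ≠ a • (1 : M6) := by
  change ∀ a : ZMod 3, g1 ^ 2 ≠ a • (1 : M6)
  rw [sq, g11]
  decide

theorem g1_7ne : ∀ a : ZMod 3, (s1 ^ 7).1 ≠ a • (1 : M6) := by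
  change ∀ a : ZMod 3, g1 ^ 7 ≠ a • (1 : M6)
  rw [g1_7]
  decide

theorem u13ne : ∀ a : ZMod 3, u13.1 ≠ a • (1 : M6) := by
  change ∀ a : ZMod 3, g13 ≠ a • (1 : M6)
  decide

theorem exists14 : ∃ x : L, orderOf x = 14 := by
  refine ⟨QuotientGroup.mk s1, ?_⟩
  apply orderOf_eq_of_pow_and_pow_div_prime (by norm_num)
  · rw [← QuotientGroup.mk_pow, QuotientGroup.eq_one_iff, Cfsg.Agent.LieClassical.SympCenter.mem_center_iff]
    refine ⟨-1, ?_⟩
    change g1 ^ 14 = _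
    rw [g1_14, neg_smul, one_smul]
  · intro p hp hd
    have h : p = 2 ∨ p = 7 := by
      rcases hp.dvd_mul.1 (show p ∣ 2 * 7 from hd) with h | h
      · exact Or.inl ((Nat.prime_dvd_prime_iff_eq hp Nat.prime_two).1 h)
      · exact Or.inr ((Nat.prime_dvd_prime_iff_eq hp (by norm_num)).1 h)
    rcases h with rfl | rfl
    · rw [← QuotientGroup.mk_pow]
      exact mk_ne g1_7ne
    · rw [← QuotientGroup.mk_pow]
      exact mk_ne g1_2ne

theorem exists13 : ∃ x : L, orderOf x = 13 := by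
  refine ⟨QuotientGroup.mk u13, order_mk (by norm_num) (Subtype.ext ?_) u13ne⟩
  change g13 ^ 13 = 1
  exact pow13

theorem exists6 : ∃ x : L, orderOf x = 6 :=
  order_mul (p := 2) (q := 3) (by norm_num) (by norm_num) (by norm_num) z2 zne t3 tne zt

theorem exists10 : ∃ x : L, orderOf x = 10 :=
  order_mul (p := 2) (q := 5) (by norm_num) (by norm_num) (by norm_num) z2 zne y5 yne zy

theorem exists15 : ∃ x : L, orderOf x = 15 :=
  order_mul (p := 3) (q := 5) (by norm_num) (by norm_num) (by norm_num) t3 tne y5 yne ty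

theorem pat_L : Pat L := by
  refine pat_of ?_ exists13 exists6 exists10 exists14 exists15
    (fun g => no_L g (p := 7) (r := 3) (by norm_num)) no26 (fun g => no_L g (p := 7) (r := 5) (by norm_num))
    (fun g => no_L g (p := 13) (r := 3) (by norm_num)) (fun g => no_L g (p := 13) (r := 5) (by norm_num))
    (fun g => no_L g (p := 13) (r := 7) (by norm_num))
  rintro p hp ⟨x, hx⟩
  have h1 : p ∣ Nat.card L := hx ▸ orderOf_dvd_natCard x
  have h2 : p ∣ Nat.card S := h1.trans (Subgroup.card_quotient_dvd_card _)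
  rw [card_S, show 9170703360 = 2 ^ 10 * (3 ^ 9 * (5 * (7 * 13))) by norm_num] at h2
  rcases hp.dvd_mul.1 h2 with h | h
  · exact Or.inl ((Nat.prime_dvd_prime_iff_eq hp Nat.prime_two).1 (hp.dvd_of_dvd_pow h))
  rcases hp.dvd_mul.1 h with h | h
  · exact Or.inr (Or.inl ((Nat.prime_dvd_prime_iff_eq hp Nat.prime_three).1 (hp.dvd_of_dvd_pow h)))
  rcases hp.dvd_mul.1 h with h | h
  · exact Or.inr (Or.inr (Or.inl ((Nat.prime_dvd_prime_iff_eq hp Nat.prime_five).1 h)))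
  rcases hp.dvd_mul.1 h with h | h
  · exact Or.inr (Or.inr (Or.inr (Or.inl ((Nat.prime_dvd_prime_iff_eq hp (by norm_num)).1 h))))
  · exact Or.inr (Or.inr (Or.inr (Or.inr ((Nat.prime_dvd_prime_iff_eq hp (by norm_num)).1 h))))

/-- for every field with three elements -/
theorem pat_psp {F : Type*} [Field F] [Fintype F] (hF : Fintype.card F = 3) : Pat (Cfsg.PSp 3 F) := by
  let e : ZMod 3 ≃+* F := ZMod.ringEquivOfPrime F Nat.prime_three hF
  let E : L ≃* Cfsg.PSp 3 F := Cfsg.Agent.LieClassical.FieldTransfer.pspCongr 3 e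
  have hL := pat_L
  have hc : Nat.card (Cfsg.PSp 3 F) = Nat.card L := (Nat.card_congr E.toEquiv).symm
  have ho : ∀ m : ℕ, (∃ g : Cfsg.PSp 3 F, orderOf g = m) ↔ (∃ g : L, orderOf g = m) := by
    intro m
    constructor
    · rintro ⟨g, rfl⟩
      exact ⟨E.symm g, orderOf_injective E.symm.toMonoidHom E.symm.injective g⟩
    · rintro ⟨g, rfl⟩
      exact ⟨E g, orderOf_injective E.toMonoidHom E.injective g⟩
  refine ⟨fun p hp => ?_, fun p q hp hq hne => ?_⟩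
  · rw [hc]; exact hL.1 p hp
  · rw [ho]; exact hL.2 p q hp hq hne

end Cfsg.Agent.H423.PSpSix
end
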